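import Mathlib
import Groth.Prelude.Def_NonAbH1

/-!
The boundary map of the non-abelian cohomology sequence of a quotient sheaf.
-/

set_option autoImplicit false

universe w v u

open CategoryTheory Opposite

namespace Groth.NonAbBdry

open NonAbH1

variable {C : Type u} [Category.{v} C] {J : GrothendieckTopology C}

theorem eq_of_locally {P : Sheaf J (Type w)} {X : C} {S : Sieve X} (hS : S ∈ J X)
    (a b : P.obj.obj (op X)) (h : ∀ ⦃V : C⦄ (f : V ⟶ X), S f → P.obj.map f.op a = P.obj.map f.op b) : a = b :=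
  (((isSheaf_iff_isSheaf_of_type J P.obj).1 P.property) S hS).isSeparatedFor.ext fun _ f hf => h f hf

variable {F : Sheaf J GrpCat.{w}}

/-- A map out of a locally nonempty sheaf which is constant on sections factors through a global section. -/
theorem exists_section_of_const {T : GSheaf F} (hT : T.LocallyNonempty) {P : Sheaf J (Type w)}
    (φ : T.P ⟶ P) (h : ∀ (U : Cᵒᵖ) (t t' : T.P.obj.obj U), φ.hom.app U t = φ.hom.app U t') :
    ∃ s : P.obj.sections, ∀ (U : Cᵒᵖ) (t : T.P.obj.obj U), φ.hom.app U t = s.1 U := by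
  let S : ∀ U : C, Sieve U := fun U =>
    { arrows := fun V _ => Nonempty (T.P.obj.obj (op V))
      downward_closed := fun {_ _} _ ⟨t⟩ g => ⟨T.P.obj.map g.op t⟩ }
  have hS : ∀ U, S U ∈ J U := fun U => by
    obtain ⟨S₀, hS₀, hne⟩ := hT U
    exact J.superset_covering (fun _ f hf => hne f hf) hS₀
  have sh := fun U => ((isSheaf_iff_isSheaf_of_type J P.obj).1 P.property) (S U) (hS U)
  have nat : ∀ {U V : Cᵒᵖ} (f : U ⟶ V) (t : T.P.obj.obj U),
      P.obj.map f (φ.hom.app U t) = φ.hom.app V (T.P.obj.map f t) :=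
    fun f t => (NatTrans.naturality_apply φ.hom f t).symm
  let x : ∀ U, Presieve.FamilyOfElements P.obj (S U).arrows := fun U V _ hf =>
    φ.hom.app (op V) (Classical.choice hf)
  have hx : ∀ U, (x U).Compatible := fun U Y₁ Y₂ Z g₁ g₂ f₁ f₂ h₁ h₂ _ => by
    simp only [x, nat]
    exact h _ _ _
  let s : ∀ U : C, P.obj.obj (op U) := fun U => (sh U).amalgamate (x U) (hx U)
  have hs : ∀ {U V : C} (f : V ⟶ U) (t : T.P.obj.obj (op V)), P.obj.map f.op (s U) = φ.hom.app (op V) t :=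
    fun {U V} f t => ((sh U).valid_glue (hx U) f ⟨t⟩).trans (h _ _ _)
  refine ⟨⟨fun U => s U.unop, ?_⟩, fun U t => ?_⟩
  · intro U V f
    refine eq_of_locally (hS V.unop) _ _ fun W g ⟨t⟩ => ?_
    rw [hs g t]
    change P.obj.map g.op (P.obj.map f (s U.unop)) = _
    rw [← FunctorToTypes.map_comp_apply]
    exact hs (g ≫ f.unop) t
  · have := hs (𝟙 U.unop) t
    simp only [op_id, CategoryTheory.Functor.map_id] at this
    exact this.symm

variable [J.HasSheafCompose (forget GrpCat.{w})] {G : Sheaf J GrpCat.{w}}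

/-- Inversion on the underlying sheaf of sets. -/
noncomputable def invHom (G : Sheaf J GrpCat.{w}) : GSheaf.uSh G ⟶ GSheaf.uSh G :=
  ⟨{ app := fun U => ↾fun g : (GSheaf.uSh G).obj.obj U => GSheaf.ofGrp (GSheaf.toGrp g)⁻¹
     naturality := fun U V f => by
      ext g
      exact (map_inv (G.obj.map f).hom (GSheaf.toGrp g)).symm }⟩

theorem invHom_app {U : Cᵒᵖ} (g : (GSheaf.uSh G).obj.obj U) :
    GSheaf.toGrp ((invHom G).hom.app U g) = (GSheaf.toGrp g)⁻¹ := rfl

variable (u : F ⟶ G) {Q : GSheaf G} (π : GSheaf.trivial G ⟶ Q)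

/-- The section of the quotient of a product. -/
theorem π_mul {U : Cᵒᵖ} (g h : G.obj.obj U) :
    π.hom.hom.app U (GSheaf.ofGrp (g * h)) = Q.smul g (π.hom.hom.app U (GSheaf.ofGrp h)) :=
  π.map_smul g (GSheaf.ofGrp h)

theorem map_section (c : Q.P.obj.sections) {U V : Cᵒᵖ} (f : U ⟶ V) (g : G.obj.obj U)
    (hg : π.hom.hom.app U (GSheaf.ofGrp g) = c.1 U) :
    π.hom.hom.app V (GSheaf.ofGrp (G.obj.map f g)) = c.1 V := by
  rw [← c.2 f, ← hg]
  exact NatTrans.naturality_apply π.hom.hom f (GSheaf.ofGrp g)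

/-- The sheaf of liftings of a section of the quotient. -/
def liftings (c : Q.P.obj.sections) : Subfunctor (GSheaf.uSh G).obj where
  obj U := {g | π.hom.hom.app U g = c.1 U}
  map {U V} f g hg := map_section π c f (GSheaf.toGrp g) hg

variable {u}

theorem π_mul_map (hQ : GSheaf.IsQuotientBy u π) {U : Cᵒᵖ} (g : G.obj.obj U) (f : F.obj.obj U) :
    π.hom.hom.app U (GSheaf.ofGrp (g * u.hom.app U f)) = π.hom.hom.app U (GSheaf.ofGrp g) :=
  ((hQ.1 U g _).2 ⟨f, rfl⟩).symm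

theorem π_mul_map_inv (hQ : GSheaf.IsQuotientBy u π) {U : Cᵒᵖ} (g : G.obj.obj U) (f : F.obj.obj U) :
    π.hom.hom.app U (GSheaf.ofGrp (g * (u.hom.app U f)⁻¹)) = π.hom.hom.app U (GSheaf.ofGrp g) := by
  rw [← map_inv (u.hom.app U).hom]
  exact π_mul_map π hQ g f⁻¹

/-- The sheaf of liftings with its action. -/
noncomputable def fibre (hQ : GSheaf.IsQuotientBy u π) (c : Q.P.obj.sections) : GSheaf F where
  P := ⟨(liftings π c).toFunctor, by
    rw [isSheaf_iff_isSheaf_of_type, (liftings π c).isSheaf_iff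
      ((isSheaf_iff_isSheaf_of_type _ _).1 (GSheaf.uSh G).property)]
    intro U g hg
    refine eq_of_locally (P := Q.P) hg _ _ fun V f hf => ?_
    rw [c.2 f.op]
    have hf' : π.hom.hom.app (op V) ((GSheaf.uSh G).obj.map f.op g) = c.1 (op V) := hf
    exact (NatTrans.naturality_apply π.hom.hom f.op g).symm.trans hf'⟩
  smul {U} f g := ⟨GSheaf.ofGrp (GSheaf.toGrp g.1 * (u.hom.app U f)⁻¹),
    (π_mul_map_inv π hQ _ f).trans g.2⟩
  one_smul g := Subtype.ext (by
    change GSheaf.toGrp g.1 * (u.hom.app _ 1)⁻¹ = GSheaf.toGrp g.1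
    simp)
  mul_smul {U} f f' g := Subtype.ext (by
    change GSheaf.toGrp g.1 * (u.hom.app U (f * f'))⁻¹ =
      GSheaf.toGrp g.1 * (u.hom.app U f')⁻¹ * (u.hom.app U f)⁻¹
    simp [mul_assoc])
  map_smul {U V} a f g := Subtype.ext (by
    change G.obj.map a (GSheaf.toGrp g.1 * (u.hom.app U f)⁻¹) =
      G.obj.map a (GSheaf.toGrp g.1) * (u.hom.app V (F.obj.map a f))⁻¹
    rw [map_mul, map_inv, NatTrans.naturality_apply u.hom a f])

theorem fibre_isFibreOver (hQ : GSheaf.IsQuotientBy u π) (c : Q.P.obj.sections) :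
    GSheaf.IsFibreOver u π c (fibre π hQ c) :=
  ⟨⟨(liftings π c).ι⟩, fun _ _ _ h => Subtype.ext h, fun _ g =>
    ⟨by rintro ⟨t, rfl⟩; exact t.2, fun h => ⟨⟨GSheaf.ofGrp g, h⟩, rfl⟩⟩, fun _ _ _ => rfl⟩

theorem isTorsor_of_isFibreOver (hu : ∀ U, Function.Injective (u.hom.app U))
    (hQ : GSheaf.IsQuotientBy u π) {c : Q.P.obj.sections} {T : GSheaf F}
    (hT : GSheaf.IsFibreOver u π c T) : T.IsTorsor := by
  obtain ⟨ι, hι, hmem, hsm⟩ := hT
  refine ⟨fun U p q => ?_, fun U => ?_⟩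
  · obtain ⟨f, hf⟩ := (hQ.1 U (GSheaf.toGrp (ι.hom.app U p)) (GSheaf.toGrp (ι.hom.app U q))).1
      (((hmem U _).1 ⟨p, rfl⟩).trans ((hmem U _).1 ⟨q, rfl⟩).symm)
    refine ⟨f⁻¹, hι U ?_, fun f' hf' => ?_⟩
    · refine (hsm U f⁻¹ p).trans ?_
      rw [map_inv, inv_inv]
      exact hf.symm
    · apply hu U
      have := hsm U f' p
      rw [hf', hf, mul_right_inj] at this
      rw [map_inv, this, inv_inv]
  · obtain ⟨S, hS, hl⟩ := hQ.2 U (c.1 (op U))
    refine ⟨S, hS, fun V a ha => ?_⟩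
    obtain ⟨g, hg⟩ := hl a ha
    obtain ⟨t, -⟩ := (hmem (op V) g).2 (hg.trans (c.2 a.op))
    exact ⟨t⟩

section Move

variable {c c' : Q.P.obj.sections} {T T' : GSheaf F}

/-- The translation of liftings by a global section. -/
theorem exists_hom_of_translate (hT : GSheaf.IsFibreOver u π c T) (hT' : GSheaf.IsFibreOver u π c' T')
    (g : (GSheaf.uSh G).obj.sections) (hg : ∀ U, Q.smul (GSheaf.toGrp (g.1 U)) (c.1 U) = c'.1 U) :
    ∃ (ι : T.P ⟶ GSheaf.uSh G) (ι' : T'.P ⟶ GSheaf.uSh G) (a : T ⟶ T') (b : T' ⟶ T),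
      (∀ U, Function.Injective (ι.hom.app U)) ∧ (∀ U, Function.Injective (ι'.hom.app U)) ∧
      (∀ U t, ι'.hom.app U (a.hom.hom.app U t) = GSheaf.ofGrp (GSheaf.toGrp (g.1 U) * GSheaf.toGrp (ι.hom.app U t))) ∧
      ∀ U t, ι.hom.app U (b.hom.hom.app U t) =
        GSheaf.ofGrp ((GSheaf.toGrp (g.1 U))⁻¹ * GSheaf.toGrp (ι'.hom.app U t)) := by
  obtain ⟨ι, hι, hmem, hsm⟩ := hT
  obtain ⟨ι', hι', hmem', hsm'⟩ := hT'
  have ha : ∀ U (t : T.P.obj.obj U), ∃ t' : T'.P.obj.obj U,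
      GSheaf.toGrp (ι'.hom.app U t') = GSheaf.toGrp (g.1 U) * GSheaf.toGrp (ι.hom.app U t) := fun U t =>
    (hmem' U _).2 ((π_mul π _ _).trans ((congrArg (Q.smul _) ((hmem U _).1 ⟨t, rfl⟩)).trans (hg U)))
  have hb : ∀ U (t : T'.P.obj.obj U), ∃ t' : T.P.obj.obj U,
      GSheaf.toGrp (ι.hom.app U t') = (GSheaf.toGrp (g.1 U))⁻¹ * GSheaf.toGrp (ι'.hom.app U t) := fun U t =>
    (hmem U _).2 (by
      rw [π_mul, (hmem' U _).1 ⟨t, rfl⟩, ← hg U, ← Q.mul_smul, inv_mul_cancel, Q.one_smul])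
  choose a ha using ha
  choose b hb using hb
  have hgn : ∀ {U V : Cᵒᵖ} (f : U ⟶ V), G.obj.map f (GSheaf.toGrp (g.1 U)) = GSheaf.toGrp (g.1 V) :=
    fun f => g.2 f
  refine ⟨ι, ι', ⟨⟨{ app := fun U => ↾(a U), naturality := fun U V f => ?_ }⟩, fun {U} f t => ?_⟩,
    ⟨⟨{ app := fun U => ↾(b U), naturality := fun U V f => ?_ }⟩, fun {U} f t => ?_⟩,
    hι, hι', ha, hb⟩
  · ext t
    apply hι' V
    refine (ha V _).trans ?_
    refine Eq.trans ?_ (NatTrans.naturality_apply ι'.hom f (a U t)).symm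
    change _ = G.obj.map f (GSheaf.toGrp (ι'.hom.app U (a U t)))
    rw [ha, map_mul, hgn]
    exact congrArg (fun z : G.obj.obj V => GSheaf.toGrp (g.1 V) * z) (NatTrans.naturality_apply ι.hom f t)
  · apply hι' U
    refine (ha U _).trans ?_
    rw [hsm, ← mul_assoc, ← ha U t]
    exact (hsm' U f _).symm
  · ext t
    apply hι V
    refine (hb V _).trans ?_
    refine Eq.trans ?_ (NatTrans.naturality_apply ι.hom f (b U t)).symm
    change _ = G.obj.map f (GSheaf.toGrp (ι.hom.app U (b U t)))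
    rw [hb, map_mul, map_inv, hgn]
    exact congrArg (fun z : G.obj.obj V => (GSheaf.toGrp (g.1 V))⁻¹ * z) (NatTrans.naturality_apply ι'.hom f t)
  · apply hι U
    refine (hb U _).trans ?_
    rw [hsm', ← mul_assoc, ← hb U t]
    exact (hsm U f _).symm

theorem nonempty_iso_of_translate (hT : GSheaf.IsFibreOver u π c T) (hT' : GSheaf.IsFibreOver u π c' T')
    (g : (GSheaf.uSh G).obj.sections) (hg : ∀ U, Q.smul (GSheaf.toGrp (g.1 U)) (c.1 U) = c'.1 U) :
    Nonempty (T ≅ T') := by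
  obtain ⟨ι, ι', a, b, hι, hι', ha, hb⟩ := exists_hom_of_translate π hT hT' g hg
  refine ⟨⟨a, b, ?_, ?_⟩⟩
  · apply GSheaf.hom_ext
    apply InducedCategory.hom_ext
    ext U t
    apply hι U
    change ι.hom.app U (b.hom.hom.app U (a.hom.hom.app U t)) = ι.hom.app U t
    exact (hb U _).trans ((congrArg (fun z : G.obj.obj U => (GSheaf.toGrp (g.1 U))⁻¹ * z) (ha U t)).trans
      (inv_mul_cancel_left _ _))
  · apply GSheaf.hom_ext
    apply InducedCategory.hom_ext
    ext U t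
    apply hι' U
    change ι'.hom.app U (a.hom.hom.app U (b.hom.hom.app U t)) = ι'.hom.app U t
    exact (ha U _).trans ((congrArg (fun z : G.obj.obj U => GSheaf.toGrp (g.1 U) * z) (hb U t)).trans
      (mul_inv_cancel_left _ _))

/-- The global section `1`. -/
def oneSection (G : Sheaf J GrpCat.{w}) : (GSheaf.uSh G).obj.sections :=
  ⟨fun U => GSheaf.ofGrp (1 : G.obj.obj U), fun f => map_one (G.obj.map f).hom⟩

theorem nonempty_iso_of_isFibreOver {T₀ : GSheaf F} (hT : GSheaf.IsFibreOver u π c T)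
    (hT₀ : GSheaf.IsFibreOver u π c T₀) : Nonempty (T ≅ T₀) :=
  nonempty_iso_of_translate π hT hT₀ (oneSection G) fun U => Q.one_smul _

theorem exists_translate_of_iso (hu : ∀ U, Function.Injective (u.hom.app U))
    (hQ : GSheaf.IsQuotientBy u π) (hT : GSheaf.IsFibreOver u π c T)
    (hT' : GSheaf.IsFibreOver u π c' T') (e : T ≅ T') :
    ∃ g : (GSheaf.uSh G).obj.sections, ∀ U, Q.smul (GSheaf.toGrp (g.1 U)) (c.1 U) = c'.1 U := by
  have htors := isTorsor_of_isFibreOver π hu hQ hT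
  obtain ⟨ι, hι, hmem, hsm⟩ := hT
  obtain ⟨ι', hι', hmem', hsm'⟩ := hT'
  let φ : T.P ⟶ GSheaf.uSh G :=
    ⟨{ app := fun U => ↾fun t => GSheaf.ofGrp (GSheaf.toGrp (ι'.hom.app U (e.hom.hom.hom.app U t)) *
          (GSheaf.toGrp (ι.hom.app U t))⁻¹)
       naturality := fun U V f => by
        ext t
        change _ = G.obj.map f (GSheaf.toGrp (ι'.hom.app U (e.hom.hom.hom.app U t)) *
          (GSheaf.toGrp (ι.hom.app U t))⁻¹)
        rw [map_mul, map_inv]
        exact congrArg₂ (· * ·) ((congrArg (fun z => ι'.hom.app V z)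
            (NatTrans.naturality_apply e.hom.hom.hom f t)).trans (NatTrans.naturality_apply ι'.hom f _))
          (congrArg (·⁻¹) (NatTrans.naturality_apply ι.hom f t)) }⟩
  obtain ⟨g, hg⟩ := exists_section_of_const htors.2 φ fun U t t' => by
    obtain ⟨f, hf, -⟩ := htors.1 U t t'
    subst hf
    change GSheaf.toGrp (ι'.hom.app U _) * _ = GSheaf.toGrp (ι'.hom.app U _) * _
    rw [e.hom.map_smul, hsm', hsm]
    simp [mul_assoc]
  refine ⟨g, fun U => ?_⟩
  obtain ⟨S, hS, hne⟩ := htors.2 U.unop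
  refine eq_of_locally hS _ _ fun V a ha => ?_
  obtain ⟨t⟩ := hne a ha
  rw [c'.2 a.op, Q.map_smul, c.2 a.op, ← (hmem (op V) _).1 ⟨t, rfl⟩, ← π_mul,
    ← (hmem' (op V) _).1 ⟨e.hom.hom.hom.app _ t, rfl⟩]
  congr 2
  change G.obj.map a.op (GSheaf.toGrp (g.1 U)) * _ = _
  rw [show G.obj.map a.op (GSheaf.toGrp (g.1 U)) = GSheaf.toGrp (g.1 (op V)) from g.2 a.op, ← hg (op V) t]
  exact inv_mul_cancel_right _ _

end Move

theorem exists_fibre_iff (hu : ∀ U, Function.Injective (u.hom.app U))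
    (hQ : GSheaf.IsQuotientBy u π) (T : GSheaf F) (hT : T.IsTorsor) :
    GSheaf.IsPushforwardAlong u T (GSheaf.trivial G) ↔
      ∃ c : Q.P.obj.sections, GSheaf.IsFibreOver u π c T := by
  constructor
  · rintro ⟨φ, hφ⟩
    let ι := φ ≫ invHom G
    have hsm : ∀ U f (t : T.P.obj.obj U),
        GSheaf.toGrp (ι.hom.app U (T.smul f t)) = GSheaf.toGrp (ι.hom.app U t) * (u.hom.app U f)⁻¹ := by
      intro U f t
      change (GSheaf.toGrp (φ.hom.app U (T.smul f t)))⁻¹ = (GSheaf.toGrp (φ.hom.app U t))⁻¹ * _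
      rw [hφ]
      exact mul_inv_rev _ _
    have hinj : ∀ U, Function.Injective (ι.hom.app U) := by
      intro U t t' h
      obtain ⟨f, hf, -⟩ := hT.1 U t t'
      subst hf
      have h1 := (congrArg GSheaf.toGrp h).trans (hsm U f t)
      rw [eq_comm, mul_eq_left, inv_eq_one, ← map_one (u.hom.app U).hom] at h1
      rw [hu U h1, T.one_smul]
    obtain ⟨c, hc⟩ := exists_section_of_const hT.2 (ι ≫ π.hom) fun U t t' => by
      obtain ⟨f, hf, -⟩ := hT.1 U t t'
      subst hf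
      change π.hom.hom.app U _ = π.hom.hom.app U (GSheaf.ofGrp (GSheaf.toGrp (ι.hom.app U (T.smul f t))))
      rw [hsm, π_mul_map_inv π hQ]
      rfl
    refine ⟨c, ι, hinj, fun U g => ⟨?_, fun hg => ?_⟩, hsm⟩
    · rintro ⟨t, rfl⟩
      exact hc U t
    · let S₀ : Sieve U.unop :=
        { arrows := fun V a => ∃ t : T.P.obj.obj (op V), GSheaf.toGrp (ι.hom.app (op V) t) = G.obj.map a.op g
          downward_closed := fun {V W} a ⟨t, ht⟩ b => ⟨T.P.obj.map b.op t, by
            refine (congrArg GSheaf.toGrp (NatTrans.naturality_apply ι.hom b.op t)).trans ?_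
            change G.obj.map b.op (GSheaf.toGrp (ι.hom.app (op V) t)) = _
            rw [ht, op_comp, G.obj.map_comp]
            rfl⟩ }
      obtain ⟨S, hS, hne⟩ := hT.2 U.unop
      have hS₀ : S₀ ∈ J U.unop := J.superset_covering (fun V a ha => by
        obtain ⟨t⟩ := hne a ha
        obtain ⟨f, hf⟩ := (hQ.1 (op V) (GSheaf.toGrp (ι.hom.app _ t)) (G.obj.map a.op g)).1
          ((hc _ t).trans (map_section π c a.op g hg).symm)
        exact ⟨T.smul f⁻¹ t, by rw [hsm, map_inv, inv_inv]; exact hf.symm⟩) hS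
      have sh := ((isSheaf_iff_isSheaf_of_type J T.P.obj).1 T.P.property) S₀ hS₀
      let x : Presieve.FamilyOfElements T.P.obj S₀.arrows := fun V a ha => ha.choose
      have hx : x.Compatible := fun Y₁ Y₂ Z g₁ g₂ f₁ f₂ h₁ h₂ e => by
        apply hinj
        refine (NatTrans.naturality_apply ι.hom g₁.op _).trans
          (Eq.trans ?_ (NatTrans.naturality_apply ι.hom g₂.op _).symm)
        change G.obj.map g₁.op (GSheaf.toGrp (ι.hom.app _ (x f₁ h₁))) =
          G.obj.map g₂.op (GSheaf.toGrp (ι.hom.app _ (x f₂ h₂)))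
        rw [h₁.choose_spec, h₂.choose_spec, ← ConcreteCategory.comp_apply, ← ConcreteCategory.comp_apply,
          ← G.obj.map_comp, ← G.obj.map_comp, ← op_comp, ← op_comp, e]
      refine ⟨sh.amalgamate x hx, ?_⟩
      refine eq_of_locally (P := GSheaf.uSh G) hS₀ _ _ fun V a ha => ?_
      refine (NatTrans.naturality_apply ι.hom a.op _).symm.trans ?_
      rw [sh.valid_glue hx a ha]
      exact ha.choose_spec
  · rintro ⟨c, ι, -, -, hsm⟩
    refine ⟨ι ≫ invHom G, fun U f t => ?_⟩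
    change (GSheaf.toGrp (ι.hom.app U (T.smul f t)))⁻¹ =
      u.hom.app U f * (GSheaf.toGrp (ι.hom.app U t))⁻¹
    rw [hsm, mul_inv_rev, inv_inv]

end Groth.NonAbBdry
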