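import Mathlib
import Groth.Agent.NonAbBdry.Basic

/-!
A torsor of liftings is trivial iff the section lifts.
-/

set_option autoImplicit false

universe w v u

open CategoryTheory Opposite

namespace Groth.NonAbBdry

open NonAbH1

variable {C : Type u} [Category.{v} C] {J : GrothendieckTopology C} [J.HasSheafCompose (forget GrpCat.{w})]
  {F G : Sheaf J GrpCat.{w}}

theorem nonempty_iso_of_cl_eq {P Q : Torsor F} (h : P.cl = Q.cl) : Nonempty (P.toGSheaf ≅ Q.toGSheaf) := by
  refine Equivalence.eqvGen_iff (r := fun P Q : Torsor F => Nonempty (P.toGSheaf ≅ Q.toGSheaf))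
    ⟨fun _ => ⟨Iso.refl _⟩, fun ⟨e⟩ => ⟨e.symm⟩, fun ⟨e⟩ ⟨e'⟩ => ⟨e.trans e'⟩⟩ |>.1 (Quot.eqvGen_exact h)

theorem nonempty_iso_trivial_of_section (T : Torsor F) (s : T.P.obj.sections) :
    Nonempty (GSheaf.trivial F ≅ T.toGSheaf) := by
  let φ : GSheaf.trivial F ⟶ T.toGSheaf :=
    ⟨⟨{ app := fun U => ↾fun f => T.smul (GSheaf.toGrp f) (s.1 U)
        naturality := fun U V a => by
          ext f
          show T.smul _ _ = T.P.obj.map a (T.smul _ _)
          rw [T.map_smul, s.2 a]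
          rfl }⟩, fun g p => T.mul_smul g (GSheaf.toGrp p) _⟩
  choose d hd hu using fun U (t : T.P.obj.obj U) => T.isTorsor.1 U (s.1 U) t
  let ψ : T.toGSheaf ⟶ GSheaf.trivial F :=
    ⟨⟨{ app := fun U => ↾fun t => GSheaf.ofGrp (d U t)
        naturality := fun U V a => by
          ext t
          show GSheaf.ofGrp (d V (T.P.obj.map a t)) = GSheaf.ofGrp (F.obj.map a (d U t))
          refine (hu V _ _ ?_).symm
          rw [← s.2 a]
          show T.smul _ _ = _
          rw [← T.map_smul, hd] }⟩, fun {U} g t => by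
        show GSheaf.ofGrp (d U (T.smul g t)) = GSheaf.ofGrp (g * d U t)
        refine (hu U _ _ ?_).symm
        show T.smul _ _ = _
        rw [T.mul_smul, hd]⟩
  refine ⟨⟨φ, ψ, ?_, ?_⟩⟩
  · apply GSheaf.hom_ext
    apply InducedCategory.hom_ext
    ext U f
    exact (hu U (T.smul (GSheaf.toGrp f) (s.1 U)) _ rfl).symm
  · apply GSheaf.hom_ext
    apply InducedCategory.hom_ext
    ext U t
    exact hd U t

variable (u : F ⟶ G) {Q : GSheaf G} (π : GSheaf.trivial G ⟶ Q)

theorem cl_eq_one_iff (c : Q.P.obj.sections) (T : Torsor F)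
    (hT : GSheaf.IsFibreOver u π c T.toGSheaf) :
    T.cl = 1 ↔ ∃ g : (GSheaf.uSh G).obj.sections, ∀ U, π.hom.hom.app U (g.1 U) = c.1 U := by
  obtain ⟨ι, hι, hmem, -⟩ := hT
  constructor
  · intro h
    obtain ⟨e⟩ := nonempty_iso_of_cl_eq (P := T) (Q := trivialTorsor F) h
    refine ⟨⟨fun U => ι.hom.app U (e.inv.hom.hom.app U (GSheaf.ofGrp (1 : F.obj.obj U))), fun {U V} a => ?_⟩,
      fun U => (hmem U _).1 ⟨_, rfl⟩⟩
    refine ((NatTrans.naturality_apply ι.hom a _).symm.trans (congrArg (ι.hom.app V) ?_))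
    refine (NatTrans.naturality_apply e.inv.hom.hom a _).symm.trans (congrArg (e.inv.hom.hom.app V) ?_)
    exact map_one (F.obj.map a).hom
  · rintro ⟨g, hg⟩
    choose s hs using fun U => (hmem U (GSheaf.toGrp (g.1 U))).2 (hg U)
    obtain ⟨e⟩ := nonempty_iso_trivial_of_section T ⟨s, fun {U V} a => hι V (by
      refine (NatTrans.naturality_apply ι.hom a _).trans ?_
      refine Eq.trans ?_ (hs V).symm
      exact (congrArg ((GSheaf.uSh G).obj.map a) (hs U)).trans (g.2 a))⟩
    exact Quot.sound ⟨e.symm⟩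

end Groth.NonAbBdry
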