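import Mathlib
import Groth.Prelude.Def_NonAbH1
import Groth.Agent.CechTorsor.Basic
import Groth.Agent.CechTorsor.Classes
import Groth.Agent.NonAbBdry.Basic
import Groth.Agent.NonAbBdry.Trivial

/-!
Godement sheaf of groups for a site with enough points: all its torsors are trivial.
-/

set_option autoImplicit false

universe u

open CategoryTheory Opposite Limits

namespace Groth.NonAbBdry.Godement

variable {C : Type (u + 1)} [Category.{u} C] {J : GrothendieckTopology C}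
  {I : Type u} (Φ : I → GrothendieckTopology.Point.{u} J)

theorem exists_refine (i : I) {X Y Y' : C} (f : Y ⟶ X) (f' : Y' ⟶ X) (y : (Φ i).fiber.obj Y)
    (y' : (Φ i).fiber.obj Y') (h : (Φ i).fiber.map f y = (Φ i).fiber.map f' y') :
    ∃ (Z : C) (z : (Φ i).fiber.obj Z) (a : Z ⟶ Y) (b : Z ⟶ Y'),
      a ≫ f = b ≫ f' ∧ (Φ i).fiber.map a z = y ∧ (Φ i).fiber.map b z = y' := by
  obtain ⟨e, a, b, hab⟩ := IsCofiltered.cospan
    (CategoryOfElements.homMk ⟨Y, y⟩ ⟨X, (Φ i).fiber.map f y⟩ f rfl)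
    (CategoryOfElements.homMk ⟨Y', y'⟩ ⟨X, (Φ i).fiber.map f y⟩ f' h.symm)
  exact ⟨e.1, e.2, a.val, b.val, congrArg Subtype.val hab, a.property, b.property⟩

theorem exists_equalize (i : I) {X Y : C} (f f' : Y ⟶ X) (y : (Φ i).fiber.obj Y)
    (h : (Φ i).fiber.map f y = (Φ i).fiber.map f' y) :
    ∃ (Z : C) (z : (Φ i).fiber.obj Z) (a : Z ⟶ Y), a ≫ f = a ≫ f' ∧ (Φ i).fiber.map a z = y := by
  let e₁ := CategoryOfElements.homMk ⟨Y, y⟩ ⟨X, (Φ i).fiber.map f y⟩ f rfl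
  let e₂ := CategoryOfElements.homMk ⟨Y, y⟩ ⟨X, (Φ i).fiber.map f y⟩ f' h.symm
  exact ⟨_, (IsCofiltered.eq e₁ e₂).2, (IsCofiltered.eqHom e₁ e₂).val,
    congrArg Subtype.val (IsCofiltered.eq_condition e₁ e₂), (IsCofiltered.eqHom e₁ e₂).property⟩

variable (F : Sheaf J GrpCat.{u + 1})

/-- The diagram of sections over the neighbourhoods. -/
noncomputable abbrev diag (i : I) : AsSmall.{u + 1} ((Φ i).fiber.Elementsᵒᵖ) ⥤ GrpCat.{u + 1} :=
  AsSmall.down ⋙ (CategoryOfElements.π (Φ i).fiber).op ⋙ F.obj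

/-- The group of germs. -/
noncomputable def stalk (i : I) : GrpCat.{u + 1} :=
  (GrpCat.FilteredColimits.colimitCocone.{u + 1, u + 1} (diag Φ F i)).pt

/-- The germ map. -/
noncomputable def germ (i : I) {V : C} (v : (Φ i).fiber.obj V) : F.obj.obj (op V) ⟶ stalk Φ F i :=
  (GrpCat.FilteredColimits.colimitCocone.{u + 1, u + 1} (diag Φ F i)).ι.app (AsSmall.up.obj (op ⟨V, v⟩))

theorem germ_map (i : I) {V W : C} (a : W ⟶ V) (w : (Φ i).fiber.obj W) (g : F.obj.obj (op V)) :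
    germ Φ F i w (F.obj.map a.op g) = germ Φ F i ((Φ i).fiber.map a w) g :=
  ConcreteCategory.congr_hom ((GrpCat.FilteredColimits.colimitCocone.{u + 1, u + 1} (diag Φ F i)).w
    (AsSmall.up.map (CategoryOfElements.homMk ⟨W, w⟩ ⟨V, (Φ i).fiber.map a w⟩ a rfl).op)) g

theorem germ_eq (i : I) {V : C} (v : (Φ i).fiber.obj V) (g g' : F.obj.obj (op V))
    (h : germ Φ F i v g = germ Φ F i v g') :
    ∃ (W : C) (a : W ⟶ V) (w : (Φ i).fiber.obj W), (Φ i).fiber.map a w = v ∧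
      F.obj.map a.op g = F.obj.map a.op g' := by
  obtain ⟨k, f₁, f₂, hk⟩ := (Types.FilteredColimit.isColimit_eq_iff _
    (isColimitOfPreserves (forget GrpCat.{u + 1})
      (GrpCat.FilteredColimits.colimitCoconeIsColimit.{u + 1, u + 1} (diag Φ F i)))).1 h
  let e₁ := (AsSmall.down.map f₁).unop
  let e₂ := (AsSmall.down.map f₂).unop
  let m := IsCofiltered.eqHom e₁ e₂
  refine ⟨(IsCofiltered.eq e₁ e₂).1, m.val ≫ e₁.val, (IsCofiltered.eq e₁ e₂).2,
    (m ≫ e₁).property, ?_⟩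
  have hm : m.val ≫ e₁.val = m.val ≫ e₂.val := congrArg Subtype.val (IsCofiltered.eq_condition e₁ e₂)
  have h1 : F.obj.map e₁.val.op g = F.obj.map e₂.val.op g' := hk
  calc F.obj.map (m.val ≫ e₁.val).op g = F.obj.map m.val.op (F.obj.map e₁.val.op g) :=
        (Groth.CechTorsor.map_comp_op _ _ _).symm
    _ = F.obj.map m.val.op (F.obj.map e₂.val.op g') := by rw [h1]
    _ = F.obj.map (m.val ≫ e₂.val).op g' := Groth.CechTorsor.map_comp_op _ _ _
    _ = F.obj.map (m.val ≫ e₁.val).op g' := by rw [hm]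

variable (M : I → GrpCat.{u + 1})

/-- The product over all points of the fibres. -/
noncomputable def pshProd : Cᵒᵖ ⥤ GrpCat.{u + 1} where
  obj V := GrpCat.of ((p : Σ i, (Φ i).fiber.obj V.unop) → M p.1)
  map {V W} f := GrpCat.ofHom
    { toFun := fun h p => h ⟨p.1, (Φ p.1).fiber.map f.unop p.2⟩
      map_one' := rfl
      map_mul' := fun _ _ => rfl }
  map_id V := by
    ext h p
    show h ⟨p.1, (Φ p.1).fiber.map (𝟙 V.unop) p.2⟩ = h p
    rw [FunctorToTypes.map_id_apply (Φ p.1).fiber]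
  map_comp f g := by
    ext h p
    show h ⟨p.1, (Φ p.1).fiber.map (g.unop ≫ f.unop) p.2⟩ =
      h ⟨p.1, (Φ p.1).fiber.map f.unop ((Φ p.1).fiber.map g.unop p.2)⟩
    rw [FunctorToTypes.map_comp_apply (Φ p.1).fiber]

/-- Evaluation at a point of the fibre. -/
noncomputable def ev (i : I) {V : C} (v : (Φ i).fiber.obj V) : (pshProd Φ M).obj (op V) →* M i :=
  Pi.evalMonoidHom (fun p : Σ i, (Φ i).fiber.obj V => M p.1) ⟨i, v⟩

theorem ev_map (i : I) {V W : C} (a : W ⟶ V) (w : (Φ i).fiber.obj W)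
    (g : (pshProd Φ M).obj (op V)) :
    ev Φ M i w ((pshProd Φ M).map a.op g) = ev Φ M i ((Φ i).fiber.map a w) g := rfl

theorem ev_ext {V : C} (g g' : (pshProd Φ M).obj (op V))
    (h : ∀ i (v : (Φ i).fiber.obj V), ev Φ M i v g = ev Φ M i v g') : g = g' :=
  funext fun p => h p.1 p.2

theorem isSheaf_pshProd : Presheaf.IsSheaf J (pshProd Φ M) := by
  intro E X S hS x hx
  have choice : ∀ (p : Σ i, (Φ i).fiber.obj X), ∃ (Y : C) (f : Y ⟶ X) (_ : S f)
      (y : (Φ p.1).fiber.obj Y), (Φ p.1).fiber.map f y = p.2 :=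
    fun p => (Φ p.1).jointly_surjective S hS p.2
  choose Y f hf y hy using choice
  have key : ∀ {Y' : C} (f' : Y' ⟶ X) (hf' : S f') (i : I) (y' : (Φ i).fiber.obj Y')
      (v : (Φ i).fiber.obj X) (hv : (Φ i).fiber.map f' y' = v) (e : E),
      ev Φ M i y' ((x f' hf' : E ⟶ (pshProd Φ M).obj (op Y')).hom e) =
        ev Φ M i (y ⟨i, v⟩) ((x (f ⟨i, v⟩) (hf ⟨i, v⟩) : E ⟶ (pshProd Φ M).obj (op (Y ⟨i, v⟩))).hom e) := by
    intro Y' f' hf' i y' v hv e
    obtain ⟨Z, z, a, b, hab, rfl, hb⟩ := exists_refine Φ i f' (f ⟨i, v⟩) y' (y ⟨i, v⟩)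
      (hv.trans (hy ⟨i, v⟩).symm)
    rw [← hb, ← ev_map, ← ev_map]
    exact congrArg (ev Φ M i z) (ConcreteCategory.congr_hom (hx a b hf' (hf ⟨i, v⟩) hab) e)
  let h : E →* (pshProd Φ M).obj (op X) := Pi.monoidHom fun p =>
    ((ev Φ M p.1 (y p)).comp (x (f p) (hf p) : E ⟶ (pshProd Φ M).obj (op (Y p))).hom)
  refine ⟨GrpCat.ofHom h, fun Y' f' hf' => ?_, fun t ht => ?_⟩
  · refine GrpCat.hom_ext (MonoidHom.ext fun e => ?_)
    refine ev_ext Φ M _ _ fun i v => ?_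
    exact ((key f' hf' i v _ rfl e).trans rfl).symm
  · refine GrpCat.hom_ext (MonoidHom.ext fun e => ?_)
    refine ev_ext Φ M _ _ fun i v => ?_
    show ev Φ M i v ((t : E ⟶ (pshProd Φ M).obj (op X)).hom e) =
      ev Φ M i (y ⟨i, v⟩) ((x (f ⟨i, v⟩) (hf ⟨i, v⟩) : E ⟶ (pshProd Φ M).obj (op (Y ⟨i, v⟩))).hom e)
    rw [← ht (f ⟨i, v⟩) (hf ⟨i, v⟩)]
    show _ = ev Φ M i (y ⟨i, v⟩) ((pshProd Φ M).map _ ((t : E ⟶ (pshProd Φ M).obj (op X)).hom e))
    rw [ev_map, hy ⟨i, v⟩]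

/-- The product sheaf. -/
noncomputable def shProd : Sheaf J GrpCat.{u + 1} := ⟨pshProd Φ M, isSheaf_pshProd Φ M⟩

/-- The canonical morphism to the Godement sheaf. -/
noncomputable def unit : F ⟶ shProd Φ (stalk Φ F) :=
  ⟨{ app := fun V => GrpCat.ofHom (Pi.monoidHom fun p : Σ i, (Φ i).fiber.obj V.unop => (germ Φ F p.1 p.2).hom)
     naturality := fun V W f => by
      ext g
      funext p
      exact germ_map Φ F p.1 f.unop p.2 g }⟩

theorem unit_injective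
    (hcons : ∀ (X : C) (S : Sieve X), (∀ i (x : (Φ i).fiber.obj X), ∃ (Y : C) (f : Y ⟶ X) (_ : S f)
      (y : (Φ i).fiber.obj Y), (Φ i).fiber.map f y = x) → S ∈ J X)
    (V : Cᵒᵖ) : Function.Injective ((unit Φ F).hom.app V) := by
  intro g g' h
  let S : Sieve V.unop :=
    { arrows := fun W a => F.obj.map a.op g = F.obj.map a.op g'
      downward_closed := fun {W W'} a ha b => by
        rw [← Groth.CechTorsor.map_comp_op b a, ha, Groth.CechTorsor.map_comp_op] }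
  have hS : S ∈ J V.unop := hcons _ _ fun i x => by
    obtain ⟨W, a, w, hw, ha⟩ := germ_eq Φ F i x g g' (congrFun h ⟨i, x⟩)
    exact ⟨W, a, ha, w, hw⟩
  exact Groth.CechTorsor.ext_of_locally F hS g g' fun W a ha => ha

theorem hasSection (U : C) (P : NonAbH1.Torsor ((shProd Φ M).over U)) : P.HasSection := by
  obtain ⟨S, hS, hne⟩ := P.isTorsor.2 (Over.mk (𝟙 U))
  rw [GrothendieckTopology.mem_over_iff] at hS
  have hb : ∀ p : Σ i, (Φ i).fiber.obj U, ∃ (V : Over U) (v : (Φ p.1).fiber.obj V.left),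
      (Φ p.1).fiber.map V.hom v = p.2 ∧ Nonempty (P.P.obj.obj (op V)) := fun p => by
    obtain ⟨Y, f, hf, y, hy⟩ := (Φ p.1).jointly_surjective _ hS p.2
    obtain ⟨q⟩ := hne _ ((Sieve.overEquiv_iff S f).1 hf)
    exact ⟨_, y, (congrArg (fun a : Y ⟶ U => (Φ p.1).fiber.map a y) (Category.comp_id f)).trans hy, ⟨q⟩⟩
  choose V0 v0 hv0 hp0 using hb
  let p0 : ∀ p, P.P.obj.obj (op (V0 p)) := fun p => (hp0 p).some
  have hd : ∀ (V : Over U) (q : P.P.obj.obj (op V)) (i : I) (v : (Φ i).fiber.obj V.left),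
      ∃ m : M i, ∀ (Z : Over U) (z : (Φ i).fiber.obj Z.left) (a : Z ⟶ V)
        (b : Z ⟶ V0 ⟨i, (Φ i).fiber.map V.hom v⟩) (g : ((shProd Φ M).over U).obj.obj (op Z)),
        (Φ i).fiber.map a.left z = v → (Φ i).fiber.map b.left z = v0 ⟨i, (Φ i).fiber.map V.hom v⟩ →
        P.smul g (P.P.obj.map a.op q) = P.P.obj.map b.op (p0 _) → ev Φ M i z g = m := by
    intro V q i v
    obtain ⟨Z, z, a, b, hab, ha, hb'⟩ := exists_refine Φ i V.hom (V0 ⟨i, (Φ i).fiber.map V.hom v⟩).hom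
      v (v0 ⟨i, (Φ i).fiber.map V.hom v⟩) (hv0 ⟨i, (Φ i).fiber.map V.hom v⟩).symm
    let Z' : Over U := Over.mk (a ≫ V.hom)
    let a' : Z' ⟶ V := Over.homMk a rfl
    let b' : Z' ⟶ V0 ⟨i, (Φ i).fiber.map V.hom v⟩ := Over.homMk b hab.symm
    obtain ⟨g₀, hg₀, -⟩ := P.isTorsor.1 (op Z') (P.P.obj.map a'.op q) (P.P.obj.map b'.op (p0 _))
    refine ⟨ev Φ M i z g₀, fun Y y c d g hc hd hg => ?_⟩
    obtain ⟨W, w, s, t, hst, hs, ht⟩ := exists_refine Φ i c.left a y z (hc.trans ha.symm)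
    obtain ⟨N, n, e, he, hen⟩ := exists_equalize Φ i (s ≫ d.left) (t ≫ b) w (by simp [hs, ht, hd, hb'])
    -- the common refinement
    let σ : N ⟶ Y.left := e ≫ s
    let τ : N ⟶ Z := e ≫ t
    have hσa : σ ≫ c.left = τ ≫ a := by simp [σ, τ, hst]
    have hσb : σ ≫ d.left = τ ≫ b := by simpa [σ, τ] using he
    let N' : Over U := Over.mk (τ ≫ a ≫ V.hom)
    let σ' : N' ⟶ Y := Over.homMk σ (by
      show σ ≫ Y.hom = τ ≫ a ≫ V.hom
      rw [← Over.w c, reassoc_of% hσa])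
    let τ' : N' ⟶ Z' := Over.homMk τ rfl
    have e1 : σ' ≫ c = τ' ≫ a' := Over.OverMorphism.ext hσa
    have e2 : σ' ≫ d = τ' ≫ b' := Over.OverMorphism.ext hσb
    have key : ((shProd Φ M).over U).obj.map σ'.op g = ((shProd Φ M).over U).obj.map τ'.op g₀ := by
      refine (P.isTorsor.1 (op N') (P.P.obj.map (σ' ≫ c).op q) (P.P.obj.map (σ' ≫ d).op (p0 _))).unique
        ?_ ?_
      · show P.smul _ _ = _
        rw [← Groth.CechTorsor.map_comp_op', ← P.map_smul, hg, Groth.CechTorsor.map_comp_op']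
      · show P.smul _ _ = _
        rw [e1, e2, ← Groth.CechTorsor.map_comp_op', ← P.map_smul, hg₀, Groth.CechTorsor.map_comp_op']
    have hσn : (Φ i).fiber.map σ n = y := by simp [σ, hen, hs]
    have hτn : (Φ i).fiber.map τ n = z := by simp [τ, hen, ht]
    rw [← hσn, ← hτn]
    exact (ev_map Φ M i σ n g).symm.trans ((congrArg (ev Φ M i n) key).trans (ev_map Φ M i τ n g₀))
  choose δ hδ using hd
  let dd : ∀ V : Over U, P.P.obj.obj (op V) → ((shProd Φ M).over U).obj.obj (op V) :=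
    fun V q => fun p : Σ i, (Φ i).fiber.obj V.left => δ V q p.1 p.2
  have ev_dd : ∀ V q i v, ev Φ M i v (dd V q) = δ V q i v := fun _ _ _ _ => rfl
  have ex : ∀ (V : Over U) (q : P.P.obj.obj (op V)) (i : I) (v : (Φ i).fiber.obj V.left)
      (x : (Φ i).fiber.obj U) (_ : (Φ i).fiber.map V.hom v = x), ∃ (Z : Over U)
      (z : (Φ i).fiber.obj Z.left) (a : Z ⟶ V) (b : Z ⟶ V0 ⟨i, x⟩),
      (Φ i).fiber.map a.left z = v ∧ (Φ i).fiber.map b.left z = v0 ⟨i, x⟩ := by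
    rintro V q i v _ rfl
    obtain ⟨Z, z, a, b, hab, ha, hb'⟩ := exists_refine Φ i V.hom (V0 ⟨i, (Φ i).fiber.map V.hom v⟩).hom
      v (v0 ⟨i, (Φ i).fiber.map V.hom v⟩) (hv0 ⟨i, (Φ i).fiber.map V.hom v⟩).symm
    exact ⟨Over.mk (a ≫ V.hom), z, Over.homMk a rfl, Over.homMk b hab.symm, ha, hb'⟩
  have δ_eq : ∀ (V : Over U) (q : P.P.obj.obj (op V)) (i : I) (v : (Φ i).fiber.obj V.left)
      (x : (Φ i).fiber.obj U) (_ : (Φ i).fiber.map V.hom v = x) (Z : Over U)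
      (z : (Φ i).fiber.obj Z.left) (a : Z ⟶ V) (b : Z ⟶ V0 ⟨i, x⟩)
      (g : ((shProd Φ M).over U).obj.obj (op Z)), (Φ i).fiber.map a.left z = v →
      (Φ i).fiber.map b.left z = v0 ⟨i, x⟩ → P.smul g (P.P.obj.map a.op q) = P.P.obj.map b.op (p0 _) →
      δ V q i v = ev Φ M i z g := by
    rintro V q i v _ rfl Z z a b g ha hb hg
    exact (hδ V q i v Z z a b g ha hb hg).symm
  have dd_map : ∀ {V W : Over U} (a : W ⟶ V) (q : P.P.obj.obj (op V)),
      ((shProd Φ M).over U).obj.map a.op (dd V q) = dd W (P.P.obj.map a.op q) := by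
    intro V W a q
    refine ev_ext Φ M _ _ fun i w => ?_
    have hx : (Φ i).fiber.map V.hom ((Φ i).fiber.map a.left w) = (Φ i).fiber.map W.hom w := by
      exact (FunctorToTypes.map_comp_apply (Φ i).fiber a.left V.hom w).symm.trans
        (congrArg (fun b : W.left ⟶ U => (Φ i).fiber.map b w) (Over.w a))
    obtain ⟨Z, z, c, d, hc, hd⟩ := ex W (P.P.obj.map a.op q) i w _ rfl
    obtain ⟨g, hg, -⟩ := P.isTorsor.1 (op Z) (P.P.obj.map c.op (P.P.obj.map a.op q)) (P.P.obj.map d.op (p0 _))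
    show ev Φ M i w ((pshProd Φ M).map a.left.op (dd V q)) = _
    refine (ev_map Φ M i a.left w _).trans ?_
    exact (δ_eq V q i _ _ hx Z z (c ≫ a) d g (by simp [hc]) hd
      (by rw [← Groth.CechTorsor.map_comp_op']; exact hg)).trans (δ_eq W _ i w _ rfl Z z c d g hc hd hg).symm
  have dd_smul : ∀ {V : Over U} (g : ((shProd Φ M).over U).obj.obj (op V)) (q : P.P.obj.obj (op V)),
      dd V (P.smul g q) * g = dd V q := by
    intro V g q
    refine ev_ext Φ M _ _ fun i v => ?_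
    obtain ⟨Z, z, c, d, hc, hd⟩ := ex V q i v _ rfl
    obtain ⟨g', hg', -⟩ := P.isTorsor.1 (op Z) (P.P.obj.map c.op (P.smul g q)) (P.P.obj.map d.op (p0 _))
    refine ((ev Φ M i v).map_mul (dd V (P.smul g q)) g).trans ?_
    rw [ev_dd, ev_dd, δ_eq V _ i v _ rfl Z z c d g' hc hd hg',
      δ_eq V q i v _ rfl Z z c d (g' * ((shProd Φ M).over U).obj.map c.op g) hc hd
        (by rw [P.mul_smul, ← P.map_smul]; exact hg')]
    refine Eq.trans ?_ ((ev Φ M i z).map_mul g' _).symm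
    show _ = _ * ev Φ M i z ((pshProd Φ M).map c.left.op g)
    exact congrArg₂ (· * ·) rfl ((congrArg (fun v' => ev Φ M i v' g) hc.symm).trans (ev_map Φ M i c.left z g).symm)
  let φ : P.P ⟶ P.P :=
    ⟨{ app := fun V => ↾fun q => P.smul (dd V.unop q) q
       naturality := fun V W a => by
        ext q
        show P.smul (dd W.unop (P.P.obj.map a q)) _ = P.P.obj.map a (P.smul (dd V.unop q) q)
        rw [P.map_smul]
        exact congrArg (fun t => P.smul t _) (dd_map a.unop q).symm }⟩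
  obtain ⟨s, -⟩ := exists_section_of_const P.isTorsor.2 φ fun V q q' => by
    obtain ⟨g, rfl, -⟩ := P.isTorsor.1 V q q'
    show P.smul (dd V.unop q) q = P.smul (dd V.unop (P.smul g q)) (P.smul g q)
    rw [← P.mul_smul]
    exact congrArg (fun t => P.smul t q) (dd_smul g q).symm
  exact ⟨s.1, s.2⟩

end Groth.NonAbBdry.Godement
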